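import Groth.Agent.Frac27.Sections
import Mathlib.RingTheory.Filtration

/-!
`Formal2.FormalCohColimBijective` in degree zero along short exact sequences.
-/

set_option autoImplicit false

noncomputable section

universe u

open CategoryTheory AlgebraicGeometry TopologicalSpace Opposite

namespace Groth.Agent.Frac27

variable {A : Type u} [CommRing A] (I : Ideal A)
variable (M : Type u) [AddCommGroup M] [Module A M]
variable (U : Opens (PrimeSpectrum A))

/-- Opens of `U` containing `U ∩ V(I)`. -/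
def Adm (U V : Opens (PrimeSpectrum A)) : Prop :=
  V ≤ U ∧ ∀ p : PrimeSpectrum A, p ∈ U → p ∈ PrimeSpectrum.zeroLocus (R := A) I → p ∈ V

/-- Injectivity part. -/
def SInj : Prop :=
  ∀ V, Adm I U V → ∀ s : Sec A M V,
    (∀ n, smap (Formal2.quotPowπ A I M n) V s = 0) →
      ∃ (V' : Opens (PrimeSpectrum A)) (h : Adm I U V' ∧ V' ≤ V), sres h.2 s = 0

/-- Surjectivity part. -/
def SSurj : Prop :=
  ∀ y : ∀ n, Sec A (Formal2.quotPow A I M n) U,
    (∀ n, smap (Formal2.quotPowTrans A I M n) U (y (n + 1)) = y n) →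
      ∃ (V : Opens (PrimeSpectrum A)) (hV : Adm I U V) (x : Sec A M V),
        ∀ n, sres hV.1 (y n) = smap (Formal2.quotPowπ A I M n) V x

theorem formalCohColimBijective_iff :
    Formal2.FormalCohColimBijective A I M 0 U ↔ SInj I M U ∧ SSurj I M U := by
  constructor
  · rintro ⟨h1, h2⟩
    refine ⟨fun V hV s hs => ?_, fun y hy => ?_⟩
    · obtain ⟨V', h, hx⟩ := h1 V hV ((e0 M V).symm s) fun n => (e0 _ V).injective
        (((e0_map _ _).trans ((congrArg _ ((e0 M V).apply_symm_apply s)).trans (hs n))).trans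
          (map_zero _).symm)
      exact ⟨V', h, ((congrArg (sres h.2) ((e0 M V).apply_symm_apply s)).symm.trans
        (e0_res h.2 _).symm).trans ((congrArg (e0 M V') hx).trans (map_zero _))⟩
    · obtain ⟨V, hV, x, hx⟩ := h2 (fun n => (e0 _ U).symm (y n)) fun n => (e0 _ U).injective
        (((e0_map _ _).trans ((congrArg _ ((e0 _ U).apply_symm_apply _)).trans (hy n))).trans
          ((e0 _ U).apply_symm_apply _).symm)
      exact ⟨V, hV, e0 M V x, fun n => ((congrArg (sres hV.1) ((e0 _ U).apply_symm_apply (y n))).symm.trans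
        (e0_res hV.1 _).symm).trans ((congrArg (e0 _ V) (hx n)).trans (e0_map _ _))⟩
  · rintro ⟨h1, h2⟩
    refine ⟨fun V hV x hx => ?_, fun y hy => ?_⟩
    · obtain ⟨V', h, hs⟩ := h1 V hV (e0 M V x) fun n =>
        (e0_map _ _).symm.trans ((congrArg (e0 _ V) (hx n)).trans (map_zero _))
      exact ⟨V', h, (e0 M V').injective ((e0_res h.2 x).trans (hs.trans (map_zero _).symm))⟩
    · obtain ⟨V, hV, x, hx⟩ := h2 (fun n => e0 _ U (y n)) fun n =>
        (e0_map _ _).symm.trans (congrArg (e0 _ U) (hy n))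
      exact ⟨V, hV, (e0 M V).symm x, fun n => (e0 _ V).injective ((e0_res hV.1 _).trans
        ((hx n).trans (((congrArg _ ((e0 M V).apply_symm_apply x)).symm).trans (e0_map _ _).symm)))⟩

variable {I M U}

theorem admissible_inf {V W : Opens (PrimeSpectrum A)} (hV : Adm I U V)
    (hW : Adm I U W) : Adm I U (V ⊓ W) :=
  ⟨inf_le_left.trans hV.1, fun p h1 h2 => ⟨hV.2 p h1 h2, hW.2 p h1 h2⟩⟩

theorem admissible_self : Adm I U U := ⟨le_rfl, fun _ h _ => h⟩

theorem admissible_finset {ι : Type*} (S : Finset ι) (W : ι → Opens (PrimeSpectrum A))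
    (h : ∀ i ∈ S, Adm I U (W i)) {V : Opens (PrimeSpectrum A)}
    (hV : Adm I U V) :
    ∃ V', Adm I U V' ∧ V' ≤ V ∧ ∀ i ∈ S, V' ≤ W i := by
  classical
  induction S using Finset.induction_on with
  | empty => exact ⟨V, hV, le_rfl, fun i hi => by simp at hi⟩
  | insert a S ha ih =>
    obtain ⟨V', h1, h2, h3⟩ := ih fun i hi => h i (Finset.mem_insert_of_mem hi)
    refine ⟨V' ⊓ W a, admissible_inf h1 (h a (Finset.mem_insert_self a S)), inf_le_left.trans h2,
      fun i hi => ?_⟩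
    rcases Finset.mem_insert.mp hi with rfl | hi
    · exact inf_le_right
    · exact inf_le_left.trans (h3 i hi)

/-- The localizations of `M/I^(n+1)M` vanish away from `V(I)`. -/
theorem loc_quot_eq_zero {p : PrimeSpectrum A} (hp : p ∉ PrimeSpectrum.zeroLocus (I : Set A)) (n : ℕ)
    (z : Loc A (Formal2.quotPow A I M n) p) : z = 0 := by
  obtain ⟨a, haI, hap⟩ := Set.not_subset.mp hp
  obtain ⟨q, r, hr, rfl⟩ := exists_frac z
  refine (frac_eq_zero_iff _ _ _).mpr ⟨a ^ (n + 1), fun h => hap (p.isPrime.mem_of_pow_mem _ h), ?_⟩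
  obtain ⟨m, rfl⟩ := Submodule.mkQ_surjective _ q
  rw [← map_smul]
  exact (Submodule.Quotient.mk_eq_zero _).mpr
    (Submodule.smul_mem_smul (Ideal.pow_mem_pow haI _) Submodule.mem_top)

/-- Sections of `M/I^(n+1)M` on `U` are determined on an admissible open. -/
theorem ext_of_admissible {V : Opens (PrimeSpectrum A)} (hV : Adm I U V) {n : ℕ}
    {s t : Sec A (Formal2.quotPow A I M n) U} (h : sres hV.1 s = sres hV.1 t) : s = t := by
  classical
  refine Sec.ext' fun y => ?_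
  by_cases hy : (y.1 : PrimeSpectrum A) ∈ PrimeSpectrum.zeroLocus (I : Set A)
  · exact congrArg (fun σ => σ.1 ⟨y.1, hV.2 y.1 y.2 hy⟩) h
  · rw [loc_quot_eq_zero hy n (s.1 y), loc_quot_eq_zero hy n (t.1 y)]

/-- Sections of `M/I^(n+1)M` extend from an admissible open. -/
theorem exists_extend {V : Opens (PrimeSpectrum A)} (hV : Adm I U V) {n : ℕ}
    (s : Sec A (Formal2.quotPow A I M n) V) :
    ∃ t : Sec A (Formal2.quotPow A I M n) U, sres hV.1 t = s := by
  classical
  refine ⟨mkSec (fun y => if hy : y.1 ∈ V then s.1 ⟨y.1, hy⟩ else 0) fun x => ?_, Sec.ext' fun y => ?_⟩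
  · by_cases hx : x.1 ∈ V
    · obtain ⟨r, m, hrx, hr⟩ := exists_rep s ⟨x.1, hx⟩
      refine ⟨r, m, hrx, fun y hy => ?_⟩
      obtain ⟨hyV, he⟩ := hr y.1 hy
      rw [dif_pos hyV, he]
    · have hxI : (x.1 : PrimeSpectrum A) ∉ PrimeSpectrum.zeroLocus (I : Set A) :=
        fun h => hx (hV.2 x.1 x.2 h)
      obtain ⟨a, haI, hax⟩ := Set.not_subset.mp hxI
      refine ⟨a, 0, hax, fun y hy => ?_⟩
      have hyI : (y.1 : PrimeSpectrum A) ∉ PrimeSpectrum.zeroLocus (I : Set A) := fun h => hy (h haI)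
      exact (loc_quot_eq_zero hyI n _).trans (loc_quot_eq_zero hyI n _).symm
  · rw [sres_apply, mkSec_apply, dif_pos y.2]

variable (I)

/-- The map of quotients. -/
def qmap {M N : Type u} [AddCommGroup M] [Module A M] [AddCommGroup N] [Module A N] (φ : M →ₗ[A] N) (n : ℕ) :
    Formal2.quotPow A I M n →ₗ[A] Formal2.quotPow A I N n :=
  Submodule.mapQ _ _ φ (by
    rw [← Submodule.map_le_iff_le_comap, Submodule.map_smul'']
    exact Submodule.smul_mono le_rfl le_top)

variable (M) in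
/-- Composite transition maps. -/
def qtrans {n m : ℕ} (h : n ≤ m) : Formal2.quotPow A I M m →ₗ[A] Formal2.quotPow A I M n :=
  Submodule.mapQ _ _ LinearMap.id (by
    rw [Submodule.comap_id]
    exact Submodule.smul_mono_left (Ideal.pow_le_pow_right (by omega)))

variable {M' M'' : Type u} [AddCommGroup M'] [Module A M'] [AddCommGroup M''] [Module A M'']

theorem qmap_mk (φ : M' →ₗ[A] M) (n : ℕ) (a : M') :
    qmap I φ n (Formal2.quotPowπ A I M' n a) = Formal2.quotPowπ A I M n (φ a) := Submodule.mapQ_apply ..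

theorem qtrans_mk {n m : ℕ} (h : n ≤ m) (a : M) :
    qtrans I M h (Formal2.quotPowπ A I M m a) = Formal2.quotPowπ A I M n a := Submodule.mapQ_apply ..

theorem quotPowTrans_mk (n : ℕ) (a : M) :
    Formal2.quotPowTrans A I M n (Formal2.quotPowπ A I M (n + 1) a) = Formal2.quotPowπ A I M n a := by
  unfold Formal2.quotPowTrans
  exact Submodule.mapQ_apply ..

theorem quot_hom_ext {N : Type u} [AddCommGroup N] [Module A N] {n : ℕ}
    {a b : Formal2.quotPow A I M n →ₗ[A] N}
    (h : ∀ x, a (Formal2.quotPowπ A I M n x) = b (Formal2.quotPowπ A I M n x)) : a = b :=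
  Submodule.linearMap_qext _ (LinearMap.ext h)

theorem qmap_π (φ : M' →ₗ[A] M) (n : ℕ) :
    qmap I φ n ∘ₗ Formal2.quotPowπ A I M' n = Formal2.quotPowπ A I M n ∘ₗ φ :=
  LinearMap.ext (qmap_mk I φ n)

theorem qmap_trans (φ : M' →ₗ[A] M) (n : ℕ) :
    qmap I φ n ∘ₗ Formal2.quotPowTrans A I M' n = Formal2.quotPowTrans A I M n ∘ₗ qmap I φ (n + 1) :=
  quot_hom_ext I fun x => by
    simp only [LinearMap.comp_apply]
    rw [quotPowTrans_mk, qmap_mk, qmap_mk, quotPowTrans_mk]

theorem qmap_qtrans (φ : M' →ₗ[A] M) {n m : ℕ} (h : n ≤ m) :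
    qmap I φ n ∘ₗ qtrans I M' h = qtrans I M h ∘ₗ qmap I φ m :=
  quot_hom_ext I fun x => by
    simp only [LinearMap.comp_apply]
    rw [qtrans_mk, qmap_mk, qmap_mk, qtrans_mk]

theorem qtrans_π {n m : ℕ} (h : n ≤ m) :
    qtrans I M h ∘ₗ Formal2.quotPowπ A I M m = Formal2.quotPowπ A I M n :=
  LinearMap.ext (qtrans_mk I h)

theorem trans_qtrans {n m : ℕ} (h : n + 1 ≤ m) :
    Formal2.quotPowTrans A I M n ∘ₗ qtrans I M h = qtrans I M ((Nat.le_succ n).trans h) :=
  quot_hom_ext I fun x => by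
    simp only [LinearMap.comp_apply]
    rw [qtrans_mk, qtrans_mk, quotPowTrans_mk]

theorem qtrans_qtrans {l n m : ℕ} (h : l ≤ n) (h' : n ≤ m) :
    qtrans I M h ∘ₗ qtrans I M h' = qtrans I M (h.trans h') :=
  quot_hom_ext I fun x => by
    simp only [LinearMap.comp_apply]
    rw [qtrans_mk, qtrans_mk, qtrans_mk]

theorem qtrans_succ {n m : ℕ} (h : n ≤ m) :
    qtrans I M (h.trans (Nat.le_succ m)) = qtrans I M h ∘ₗ Formal2.quotPowTrans A I M m :=
  quot_hom_ext I fun x => by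
    simp only [LinearMap.comp_apply]
    rw [quotPowTrans_mk, qtrans_mk, qtrans_mk]

theorem qtrans_compat {y : ∀ n, Sec A (Formal2.quotPow A I M n) U}
    (hy : ∀ n, smap (Formal2.quotPowTrans A I M n) U (y (n + 1)) = y n) {n m : ℕ} (h : n ≤ m) :
    smap (qtrans I M h) U (y m) = y n := by
  induction m, h using Nat.le_induction with
  | base =>
    rw [show qtrans I M (le_refl n) = LinearMap.id from quot_hom_ext I (qtrans_mk I le_rfl)]
    refine Sec.ext' fun p => ?_
    obtain ⟨m, r, hr, he⟩ := exists_frac ((y n).1 p)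
    rw [smap_apply, he, lmap_frac, LinearMap.id_apply]
  | succ m h ih =>
    rw [qtrans_succ I h, ← smap_smap, hy m, ih]

theorem smap_comm {M₁ M₂ N₁ N₂ : Type u} [AddCommGroup M₁] [Module A M₁] [AddCommGroup M₂] [Module A M₂]
    [AddCommGroup N₁] [Module A N₁] [AddCommGroup N₂] [Module A N₂] {V : Opens (PrimeSpectrum A)}
    {a : M₁ →ₗ[A] M₂} {b : N₁ →ₗ[A] N₂} {c : M₁ →ₗ[A] N₁} {d : M₂ →ₗ[A] N₂} (h : b ∘ₗ c = d ∘ₗ a)
    (s : Sec A M₁ V) : smap b V (smap c V s) = smap d V (smap a V s) := by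
  rw [smap_smap, smap_smap, h]

theorem smap_sres {N : Type u} [AddCommGroup N] [Module A N] {V V' : Opens (PrimeSpectrum A)}
    (φ : M →ₗ[A] N) (h : V' ≤ V) (s : Sec A M V) : smap φ V' (sres h s) = sres h (smap φ V s) :=
  Sec.ext' fun _ => rfl

theorem sres_sres {V V' V'' : Opens (PrimeSpectrum A)} (h : V' ≤ V) (h' : V'' ≤ V')
    (s : Sec A M V) : sres h' (sres h s) = sres (h'.trans h) s := Sec.ext' fun _ => rfl

section SES

variable {I}
variable (f : M' →ₗ[A] M) (g : M →ₗ[A] M'') (hf : Function.Injective f) (hg : Function.Surjective g)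
  (hfg : LinearMap.range f = LinearMap.ker g)

include hf in
theorem lmap_injective (p : PrimeSpectrum A) : Function.Injective (lmap f p) :=
  LocalizedModule.map_injective _ f hf

include hf hfg in
/-- Left exactness on sections. -/
theorem exists_smap_eq {V : Opens (PrimeSpectrum A)} (s : Sec A M V) (hs : smap g V s = 0) :
    ∃ s' : Sec A M' V, smap f V s' = s := by
  have key : ∀ (y : V) (r : A) (m : M) (hr : r ∉ y.1.asIdeal), s.1 y = frac m r hr →
      ∃ (c : A) (m' : M'), c ∉ y.1.asIdeal ∧ f m' = c • m := by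
    intro y r m hr he
    have h0 := congrArg (fun σ => σ.1 y) hs
    rw [smap_apply, he, lmap_frac] at h0
    obtain ⟨c, hc, hcm⟩ := (frac_eq_zero_iff _ _ _).mp h0
    obtain ⟨m', hm'⟩ : c • m ∈ LinearMap.range f := by
      rw [hfg, LinearMap.mem_ker, map_smul]
      exact hcm
    exact ⟨c, m', hc, hm'⟩
  have hex : ∀ y : V, ∃ w, lmap f y.1 w = s.1 y := fun y => by
    obtain ⟨m, r, hr, he⟩ := exists_frac (s.1 y)
    obtain ⟨c, m', hc, hm'⟩ := key y r m hr he
    exact ⟨frac m' (c * r) (y.1.isPrime.mul_notMem hc hr), by rw [lmap_frac, hm', frac_smul_mul _ r c hr, he]⟩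
  choose w hw using hex
  refine ⟨mkSec w fun x => ?_, Sec.ext' fun y => hw y⟩
  obtain ⟨r, m, hrx, hr⟩ := exists_rep s x
  obtain ⟨hx, he⟩ := hr x.1 hrx
  obtain ⟨c, m', hc, hm'⟩ := key x r m hrx he
  refine ⟨c * r, m', x.1.isPrime.mul_notMem hc hrx, fun y hy => lmap_injective f hf y.1 ?_⟩
  have hry : r ∉ y.1.asIdeal := fun h => hy (Ideal.mul_mem_left _ _ h)
  obtain ⟨hyV, he'⟩ := hr y.1 hry
  rw [hw, lmap_frac, hm', frac_smul_mul _ r c hry]
  exact he'

variable [IsNoetherianRing A] [Module.Finite A M]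

include hf in
/-- Artin–Rees. -/
theorem exists_comap_le : ∃ k, ∀ n, Submodule.comap f (I ^ (n + k + 1) • ⊤) ≤ I ^ (n + 1) • ⊤ := by
  obtain ⟨k, hk⟩ := Ideal.exists_pow_inf_eq_pow_smul I (LinearMap.range f)
  refine ⟨k, fun n x hx => ?_⟩
  have h : f x ∈ I ^ (n + k + 1 - k) • (I ^ k • (⊤ : Submodule A M) ⊓ LinearMap.range f) := by
    rw [← hk (n + k + 1) (by omega)]
    exact ⟨hx, LinearMap.mem_range_self f x⟩
  rw [show n + k + 1 - k = n + 1 by omega] at h
  obtain ⟨x', hx', he⟩ : f x ∈ Submodule.map f (I ^ (n + 1) • ⊤) := by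
    rw [Submodule.map_smul'', Submodule.map_top]
    exact Submodule.smul_mono le_rfl inf_le_right h
  exact hf he ▸ hx'

omit [IsNoetherianRing A] [Module.Finite A M] in
/-- Classes dying in `M/I^(n+k+1)` die in `M'/I^(n+1)`. -/
theorem lmap_qtrans_eq_zero {k : ℕ} (hk : ∀ n, Submodule.comap f (I ^ (n + k + 1) • ⊤) ≤ I ^ (n + 1) • ⊤)
    (n : ℕ) {p : PrimeSpectrum A} (w : Loc A (Formal2.quotPow A I M' (n + k)) p)
    (hw : lmap (qmap I f (n + k)) p w = 0) : lmap (qtrans I M' (Nat.le_add_right n k)) p w = 0 := by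
  obtain ⟨q, r, hr, rfl⟩ := exists_frac w
  obtain ⟨a, rfl⟩ := Submodule.mkQ_surjective _ q
  rw [lmap_frac] at hw ⊢
  obtain ⟨c, hc, hca⟩ := (frac_eq_zero_iff _ _ _).mp hw
  refine (frac_eq_zero_iff _ _ _).mpr ⟨c, hc, ?_⟩
  refine (Submodule.Quotient.mk_eq_zero _).mpr (hk n ?_)
  rw [Submodule.mem_comap, LinearMap.id_apply, map_smul]
  exact (Submodule.Quotient.mk_eq_zero _).mp hca

include hf hg hfg in
/-- Compatible families killed by `g` come from compatible families. -/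
theorem exists_family (d : ∀ n, Sec A (Formal2.quotPow A I M n) U)
    (hd : ∀ n, smap (Formal2.quotPowTrans A I M n) U (d (n + 1)) = d n)
    (hgd : ∀ n, smap (qmap I g n) U (d n) = 0) :
    ∃ d' : ∀ n, Sec A (Formal2.quotPow A I M' n) U,
      (∀ n, smap (Formal2.quotPowTrans A I M' n) U (d' (n + 1)) = d' n) ∧
      ∀ n, smap (qmap I f n) U (d' n) = d n := by
  obtain ⟨k, hk⟩ := exists_comap_le (I := I) f hf
  have key : ∀ (n : ℕ) (y : U) (r : A) (m : M) (hr : r ∉ y.1.asIdeal),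
      (d n).1 y = frac (Formal2.quotPowπ A I M n m) r hr →
        ∃ (c : A) (a : M'), c ∉ y.1.asIdeal ∧
          qmap I f n (Formal2.quotPowπ A I M' n a) = c • Formal2.quotPowπ A I M n m := by
    intro n y r m hr he
    have h0 := congrArg (fun σ => σ.1 y) (hgd n)
    rw [smap_apply, he, lmap_frac] at h0
    obtain ⟨c, hc, hcm⟩ := (frac_eq_zero_iff _ _ _).mp h0
    have hmem : g (c • m) ∈ Submodule.map g (I ^ (n + 1) • ⊤) := by
      rw [Submodule.map_smul'', Submodule.map_top, LinearMap.range_eq_top.mpr hg, map_smul]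
      exact (Submodule.Quotient.mk_eq_zero _).mp hcm
    obtain ⟨i, hi, hgi⟩ := hmem
    obtain ⟨a, ha⟩ : c • m - i ∈ LinearMap.range f := by
      rw [hfg, LinearMap.mem_ker, map_sub, hgi, sub_self]
    refine ⟨c, a, hc, ?_⟩
    change Submodule.Quotient.mk (f a) = Submodule.Quotient.mk (c • m)
    rw [Submodule.Quotient.eq, ha, sub_sub_cancel_left]
    exact neg_mem hi
  have hex : ∀ (n : ℕ) (y : U), ∃ w, lmap (qmap I f n) y.1 w = (d n).1 y := fun n y => by
    obtain ⟨q, r, hr, he⟩ := exists_frac ((d n).1 y)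
    obtain ⟨m, rfl⟩ := Submodule.mkQ_surjective _ q
    obtain ⟨c, a, hc, ha⟩ := key n y r m hr he
    exact ⟨frac (Formal2.quotPowπ A I M' n a) (c * r) (y.1.isPrime.mul_notMem hc hr),
      by rw [lmap_frac, ha, frac_smul_mul _ r c hr, he]⟩
  choose w hw using hex
  have hchar : ∀ (n : ℕ) (y : U) (v : Loc A (Formal2.quotPow A I M' (n + k)) y.1),
      lmap (qmap I f (n + k)) y.1 v = (d (n + k)).1 y →
        lmap (qtrans I M' (Nat.le_add_right n k)) y.1 (w (n + k) y) =
          lmap (qtrans I M' (Nat.le_add_right n k)) y.1 v := fun n y v hv => by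
    rw [← sub_eq_zero, ← map_sub]
    exact lmap_qtrans_eq_zero f hk n _ (by rw [map_sub, hw, hv, sub_self])
  refine ⟨fun n => mkSec (fun y => lmap (qtrans I M' (Nat.le_add_right n k)) y.1 (w (n + k) y)) fun x => ?_,
    fun n => Sec.ext' fun y => ?_, fun n => Sec.ext' fun y => ?_⟩
  · obtain ⟨r, q, hrx, hr⟩ := exists_rep (d (n + k)) x
    obtain ⟨m, rfl⟩ := Submodule.mkQ_surjective _ q
    obtain ⟨hx, he⟩ := hr x.1 hrx
    obtain ⟨c, a, hc, ha⟩ := key (n + k) x r m hrx he
    refine ⟨c * r, qtrans I M' (Nat.le_add_right n k) (Formal2.quotPowπ A I M' (n + k) a),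
      x.1.isPrime.mul_notMem hc hrx, fun y hy => ?_⟩
    have hry : r ∉ y.1.asIdeal := fun h => hy (Ideal.mul_mem_left _ _ h)
    obtain ⟨hyV, he'⟩ := hr y.1 hry
    rw [← lmap_frac]
    refine hchar n y _ ?_
    rw [lmap_frac, ha, frac_smul_mul _ r c hry]
    exact he'.symm
  · simp only [smap_apply, mkSec_apply, lmap_lmap]
    rw [trans_qtrans I (Nat.le_add_right (n + 1) k)]
    have h1 := hchar n y
    have e : (n + 1) + k = (n + k) + 1 := by omega
    have h2 := hw ((n + 1) + k) y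
    have h3 : lmap (qmap I f (n + k)) y.1 (lmap (qtrans I M' (by omega : n + k ≤ n + 1 + k)) y.1
        (w (n + 1 + k) y)) = (d (n + k)).1 y := by
      rw [lmap_lmap, qmap_qtrans, ← lmap_lmap, h2]
      exact congrArg (fun σ => σ.1 y) (qtrans_compat I hd (by omega : n + k ≤ n + 1 + k))
    rw [h1 _ h3, lmap_lmap]
    exact congrArg (fun φ => lmap φ y.1 (w (n + 1 + k) y)) (qtrans_qtrans I _ _).symm
  · simp only [smap_apply, mkSec_apply]
    rw [lmap_lmap, qmap_qtrans, ← lmap_lmap, hw]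
    exact congrArg (fun σ => σ.1 y) (qtrans_compat I hd (Nat.le_add_right n k))

include hf in
theorem eq_zero_of_qmap_eq_zero {V : Opens (PrimeSpectrum A)} (s : Sec A M' V)
    (hs : ∀ n, smap (qmap I f n) V (smap (Formal2.quotPowπ A I M' n) V s) = 0) :
    ∀ n, smap (Formal2.quotPowπ A I M' n) V s = 0 := by
  obtain ⟨k, hk⟩ := exists_comap_le (I := I) f hf
  refine fun n => Sec.ext' fun y => ?_
  have h1 := lmap_qtrans_eq_zero f hk n (p := y.1) _ (congrArg (fun σ => σ.1 y) (hs (n + k)))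
  rw [smap_apply, lmap_lmap, qtrans_π] at h1
  exact h1

include hf hg hfg in
/-- Middle and right give left. -/
theorem left_of_middle_right (h : SInj I M U ∧ SSurj I M U) (h'' : SInj I M'' U) :
    SInj I M' U ∧ SSurj I M' U := by
  refine ⟨fun V hV s hs => ?_, fun y hy => ?_⟩
  · obtain ⟨V', hV', h0⟩ := h.1 V hV (smap f V s) fun n => by
      rw [← smap_comm (qmap_π I f n), hs, map_zero]
    refine ⟨V', hV', Sec.ext' fun p => lmap_injective f hf p.1 ?_⟩
    rw [← smap_apply f (sres hV'.2 s) p, smap_sres, h0]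
    exact (map_zero _).symm
  · obtain ⟨V, hV, x, hx⟩ := h.2 (fun n => smap (qmap I f n) U (y n)) fun n => by
      rw [← smap_comm (qmap_trans I f n), hy]
    obtain ⟨V', hV', h0⟩ := h'' V hV (smap g V x) fun n => by
      rw [← smap_comm (qmap_π I g n), ← hx, smap_sres, smap_smap]
      refine Sec.ext' fun p => ?_
      have hzero : qmap I g n ∘ₗ qmap I f n = 0 := Submodule.linearMap_qext _ (LinearMap.ext fun a => by
        have : g (f a) = 0 := by
          rw [← LinearMap.mem_ker, ← hfg]; exact LinearMap.mem_range_self f a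
        change Submodule.Quotient.mk (g (f a)) = (0 : Formal2.quotPow A I M'' n)
        rw [this]; rfl)
      rw [sres_apply, smap_apply, hzero]
      obtain ⟨m, r, hr, he⟩ := exists_frac ((y n).1 ⟨p.1, hV.1 p.2⟩)
      rw [he, lmap_frac, LinearMap.zero_apply]
      exact LocalizedModule.zero_mk _
    obtain ⟨x', hx'⟩ := exists_smap_eq f g hf hfg (sres hV'.2 x) (by rw [smap_sres, h0])
    obtain ⟨k, hk⟩ := exists_comap_le (I := I) f hf
    refine ⟨V', hV'.1, x', fun n => Sec.ext' fun p => ?_⟩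
    have hp : lmap (qmap I f (n + k)) p.1
        ((sres hV'.1.1 (y (n + k))).1 p - (smap (Formal2.quotPowπ A I M' (n + k)) V' x').1 p) = 0 := by
      rw [map_sub, ← smap_apply, ← smap_apply, smap_comm (qmap_π I f (n + k)), hx', smap_sres, smap_sres,
        ← hx (n + k), sres_sres, sub_self]
    have h1 := lmap_qtrans_eq_zero f hk n _ hp
    rw [map_sub, sub_eq_zero, ← smap_apply, ← smap_apply, smap_sres,
      qtrans_compat I hy (Nat.le_add_right n k), smap_smap, qtrans_π] at h1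
    exact h1

omit [IsNoetherianRing A] [Module.Finite A M] in
include hfg in
theorem g_comp_f : g ∘ₗ f = 0 := LinearMap.ext fun a => by
  change g (f a) = 0
  rw [← LinearMap.mem_ker, ← hfg]; exact LinearMap.mem_range_self f a

include hg in
/-- Local multiples of a section of `M''` lift. -/
theorem exists_smul_lift {V : Opens (PrimeSpectrum A)} (x'' : Sec A M'' V) (p : V) :
    ∃ (t : A) (z : Sec A M V), t ∉ p.1.asIdeal ∧ smap g V z = t • x'' := by
  obtain ⟨r, m'', hrp, hr⟩ := exists_rep x'' p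
  obtain ⟨m, rfl⟩ := hg m''
  obtain ⟨K, hK⟩ := exists_pow_smul_eq_zero r (smap g V (toSec m V) - r • x'') fun q hq => by
    obtain ⟨_, he⟩ := hr q.1 hq
    change lmap g q.1 ((toSec m V).1 q) - r • x''.1 q = 0
    rw [show x''.1 q = _ from he, toSec_apply, lmap_frac, smul_frac, sub_eq_zero, frac, frac,
      LocalizedModule.mk_eq]
    exact ⟨1, by simp [Submonoid.smul_def]⟩
  refine ⟨r ^ (K + 1), r ^ K • toSec m V, fun h => hrp (p.1.isPrime.mem_of_pow_mem _ h), ?_⟩
  have h0 : r ^ K • (smap g V (toSec m V) - r • x'') = 0 := Sec.ext' hK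
  rw [smul_sub, sub_eq_zero, smul_smul, ← pow_succ] at h0
  rw [smap_smul, h0]

include hf hg hfg in
/-- The lifts can be corrected. -/
theorem exists_corrected (h' : SSurj I M' U) {V : Opens (PrimeSpectrum A)} (hV : Adm I U V)
    (y : ∀ n, Sec A (Formal2.quotPow A I M n) U)
    (hy : ∀ n, smap (Formal2.quotPowTrans A I M n) U (y (n + 1)) = y n)
    (x'' : Sec A M'' V)
    (hx'' : ∀ n, sres hV.1 (smap (qmap I g n) U (y n)) = smap (Formal2.quotPowπ A I M'' n) V x'')
    (t : A) (z : Sec A M V) (hz : smap g V z = t • x'') :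
    ∃ (W : Opens (PrimeSpectrum A)) (hW : Adm I U W ∧ W ≤ V) (z' : Sec A M W),
      ∀ n, smap (Formal2.quotPowπ A I M n) W z' = t • sres hW.1.1 (y n) := by
  have hex : ∀ n, ∃ d : Sec A (Formal2.quotPow A I M n) U,
      sres hV.1 d = smap (Formal2.quotPowπ A I M n) V z - t • sres hV.1 (y n) := fun n => exists_extend hV _
  choose d hd using hex
  have hπt : ∀ n, Formal2.quotPowTrans A I M n ∘ₗ Formal2.quotPowπ A I M (n + 1) =
      Formal2.quotPowπ A I M n := fun n => LinearMap.ext (quotPowTrans_mk I n)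
  obtain ⟨d', hd'c, hd'⟩ := exists_family (U := U) f g hf hg hfg d (fun n => ext_of_admissible hV (by
    rw [← smap_sres, hd, hd, map_sub, smap_smap, hπt, smap_smul, smap_sres, hy]))
    fun n => ext_of_admissible hV (by
    rw [← smap_sres, hd, map_zero, map_sub, smap_smul, smap_comm (qmap_π I g n), hz, smap_sres, hx'',
      smap_smul, sub_self])
  obtain ⟨W, hW, x', hx'⟩ := h' d' hd'c
  refine ⟨W ⊓ V, ⟨admissible_inf hW hV, inf_le_right⟩,
    sres inf_le_right z - smap f _ (sres inf_le_left x'), fun n => ?_⟩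
  rw [map_sub, smap_sres, ← smap_comm (qmap_π I f n), smap_sres (Formal2.quotPowπ A I M' n), ← hx',
    sres_sres, smap_sres, hd']
  have h3 := congrArg (sres (inf_le_right : W ⊓ V ≤ V)) (hd n)
  rw [sres_sres, map_sub, sres_smul, sres_sres] at h3
  rw [h3, sub_sub_cancel]

omit [Module.Finite A M] in
/-- Division of a consistent family. -/
theorem exists_glue {ι : Type*} (S : Finset ι) (t : ι → A) {V : Opens (PrimeSpectrum A)}
    (hcov : ∀ q : V, ∃ s ∈ S, t s ∉ q.1.asIdeal) (z : ι → Sec A M V)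
    (hag : ∀ s₁ ∈ S, ∀ s₂ ∈ S, t s₂ • z s₁ = t s₁ • z s₂) :
    ∃ x : Sec A M V, ∀ s ∈ S, t s • x = z s := by
  have hwex : ∀ q : V, ∃ w : Loc A M q.1, ∀ s ∈ S, t s • w = (z s).1 q := fun q => by
    obtain ⟨s₀, hs₀, hts₀⟩ := hcov q
    obtain ⟨m, r, hr, he⟩ := exists_frac ((z s₀).1 q)
    refine ⟨frac m (t s₀ * r) (q.1.isPrime.mul_notMem hts₀ hr), fun s hs => smul_cancel hts₀ ?_⟩
    rw [smul_comm, smul_frac_mul m r (t s₀) hr, ← he]
    exact congrArg (fun σ => σ.1 q) (hag s₀ hs₀ s hs)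
  choose w hw using hwex
  refine ⟨mkSec w fun q => ?_, fun s hs => Sec.ext' fun q => hw q s hs⟩
  obtain ⟨s₀, hs₀, hts₀⟩ := hcov q
  obtain ⟨r, m, hrq, hr⟩ := exists_rep (z s₀) q
  refine ⟨t s₀ * r, m, q.1.isPrime.mul_notMem hts₀ hrq, fun q' hq' => ?_⟩
  have hr' : r ∉ q'.1.asIdeal := fun h => hq' (Ideal.mul_mem_left _ _ h)
  have ht' : t s₀ ∉ q'.1.asIdeal := fun h => hq' (Ideal.mul_mem_right _ _ h)
  obtain ⟨_, he⟩ := hr q'.1 hr'
  refine smul_cancel ht' ((hw q' s₀ hs₀).trans ?_)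
  rw [smul_frac_mul m r (t s₀) hr']
  exact he

include hf hg hfg in
/-- Left and right give middle. -/
theorem middle_of_left_right (h' : SInj I M' U ∧ SSurj I M' U) (h'' : SInj I M'' U ∧ SSurj I M'' U) :
    SInj I M U ∧ SSurj I M U := by
  classical
  have hinj : SInj I M U := fun V hV s hs => by
    obtain ⟨V', hV', h0⟩ := h''.1 V hV (smap g V s) fun n => by
      rw [← smap_comm (qmap_π I g n), hs, map_zero]
    obtain ⟨s', hs'⟩ := exists_smap_eq f g hf hfg (sres hV'.2 s) (by rw [smap_sres, h0])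
    obtain ⟨V'', hV'', h0'⟩ := h'.1 V' hV'.1 s' (eq_zero_of_qmap_eq_zero f hf s' fun n => by
      rw [smap_comm (qmap_π I f n), hs', smap_sres, hs, map_zero])
    refine ⟨V'', ⟨hV''.1, hV''.2.trans hV'.2⟩, ?_⟩
    rw [← sres_sres hV'.2 hV''.2, ← hs', ← smap_sres, h0', map_zero]
  refine ⟨hinj, fun y hy => ?_⟩
  obtain ⟨V, hV, x'', hx''⟩ := h''.2 (fun n => smap (qmap I g n) U (y n)) fun n => by
    rw [← smap_comm (qmap_trans I g n), hy]
  have hlift : ∀ p : V, ∃ (t : A) (z : Sec A M V), t ∉ p.1.asIdeal ∧ smap g V z = t • x'' :=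
    exists_smul_lift g hg x''
  choose t z ht hz using hlift
  obtain ⟨S, hS⟩ := (NoetherianSpace.isCompact (α := PrimeSpectrum A) (SetLike.coe V)).elim_finite_subcover
    (fun p : V => (PrimeSpectrum.basicOpen (t p) : Set (PrimeSpectrum A)))
    (fun p => (PrimeSpectrum.basicOpen (t p)).isOpen)
    (fun p hp => Set.mem_iUnion.mpr ⟨⟨p, hp⟩, ht ⟨p, hp⟩⟩)
  have hcorr := fun s : V => exists_corrected f g hf hg hfg h'.2 hV y hy x'' hx'' (t s) (z s) (hz s)
  choose W hW z' hz' using hcorr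
  obtain ⟨V₁, hV₁, hV₁V, hV₁W⟩ := admissible_finset S W (fun s _ => (hW s).1) hV
  have hagree : ∀ e : S × S, ∃ V₂, ∃ h : Adm I U V₂ ∧ V₂ ≤ V₁,
      sres h.2 (t e.2.1 • sres (hV₁W e.1.1 e.1.2) (z' e.1.1) -
        t e.1.1 • sres (hV₁W e.2.1 e.2.2) (z' e.2.1)) = 0 := fun e =>
    hinj V₁ hV₁ _ fun n => by
      rw [map_sub, smap_smul, smap_smul, smap_sres, smap_sres, hz', hz', sres_smul, sres_smul,
        sres_sres, sres_sres, smul_comm, sub_self]
  choose W₂ hW₂ hW₂eq using hagree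
  obtain ⟨V₃, hV₃, hV₃V₁, hV₃W⟩ := admissible_finset Finset.univ W₂ (fun e _ => (hW₂ e).1) hV₁
  have hcov : ∀ q : V₃, ∃ s ∈ (Finset.univ : Finset S), t s.1 ∉ q.1.asIdeal := fun q => by
    obtain ⟨s, hs, hst⟩ := Set.mem_iUnion₂.mp (hS (hV₁V (hV₃V₁ q.2)))
    exact ⟨⟨s, hs⟩, Finset.mem_univ _, hst⟩
  obtain ⟨x, hx⟩ := exists_glue Finset.univ (fun s : S => t s.1) hcov
    (fun s => sres (hV₃V₁.trans (hV₁W s.1 s.2)) (z' s.1)) fun a _ b _ => by
    have h := congrArg (sres (hV₃W (a, b) (Finset.mem_univ _))) (hW₂eq (a, b))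
    rw [map_zero, sres_sres, map_sub, sres_smul, sres_smul, sres_sres, sres_sres, sub_eq_zero] at h
    exact h
  refine ⟨V₃, hV₃, x, fun n => Sec.ext' fun q => ?_⟩
  obtain ⟨s, hs, hts⟩ := hcov q
  have h := congrArg (smap (Formal2.quotPowπ A I M n) V₃) (hx s hs)
  rw [smap_smul, smap_sres, hz', sres_smul, sres_sres] at h
  exact smul_cancel hts (congrArg (fun σ => σ.1 q) h).symm

end SES

end Groth.Agent.Frac27
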