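import Groth.Prelude.Def_Formal2
import Groth.Agent.TopCoh49.Free
import Mathlib.RingTheory.Spectrum.Prime.Noetherian

/-!
Sections of `M~` on opens of `Spec A` as families of elements of the localizations `M_p` which are
locally fractions, with the translation from `Formal2.HV A M 0`.
-/

set_option autoImplicit false

noncomputable section

universe u

open CategoryTheory AlgebraicGeometry TopologicalSpace Opposite

namespace Groth.Agent.Frac27

variable (A : Type u) [CommRing A]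

/-- The localization of `M` at a point. -/
abbrev Loc (M : Type u) [AddCommGroup M] [Module A M] (p : PrimeSpectrum A) : Type u :=
  LocalizedModule p.asIdeal.primeCompl M

variable {A}
variable {M N P : Type u} [AddCommGroup M] [Module A M] [AddCommGroup N] [Module A N] [AddCommGroup P] [Module A P]

/-- The fraction `m / r`. -/
abbrev frac {p : PrimeSpectrum A} (m : M) (r : A) (hr : r ∉ p.asIdeal) : Loc A M p :=
  LocalizedModule.mk m ⟨r, hr⟩

/-- Functoriality of the localization at a point. -/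
abbrev lmap (φ : M →ₗ[A] N) (p : PrimeSpectrum A) : Loc A M p →ₗ[A] Loc A N p :=
  (LocalizedModule.map p.asIdeal.primeCompl φ).restrictScalars A

theorem lmap_frac (φ : M →ₗ[A] N) {p : PrimeSpectrum A} (m : M) (r : A) (hr : r ∉ p.asIdeal) :
    lmap φ p (frac m r hr) = frac (φ m) r hr := LocalizedModule.map_mk _ φ m ⟨r, hr⟩

theorem exists_frac {p : PrimeSpectrum A} (z : Loc A M p) : ∃ m r hr, z = frac m r hr := by
  induction z using LocalizedModule.induction_on with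
  | h m c => exact ⟨m, c, c.2, rfl⟩

theorem frac_eq_zero_iff {p : PrimeSpectrum A} (m : M) (r : A) (hr : r ∉ p.asIdeal) :
    frac m r hr = 0 ↔ ∃ c ∉ p.asIdeal, c • m = 0 := by
  rw [← LocalizedModule.zero_mk (⟨r, hr⟩ : p.asIdeal.primeCompl), frac, LocalizedModule.mk_eq]
  simp only [Submonoid.smul_def, smul_zero]
  constructor
  · rintro ⟨⟨c, hc⟩, h⟩
    exact ⟨c * r, p.asIdeal.primeCompl.mul_mem hc hr, by rw [mul_smul]; exact h⟩
  · rintro ⟨c, hc, h⟩
    exact ⟨⟨c, hc⟩, by change c • r • m = 0; rw [smul_comm, h, smul_zero]⟩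

theorem frac_smul_mul {p : PrimeSpectrum A} (m : M) (r c : A) (hr : r ∉ p.asIdeal) (hc : c * r ∉ p.asIdeal) :
    frac (c • m) (c * r) hc = frac m r hr := by
  rw [frac, frac, LocalizedModule.mk_eq]
  exact ⟨1, by simp only [one_smul, Submonoid.smul_def]; rw [mul_comm, mul_smul]⟩

theorem smul_frac {p : PrimeSpectrum A} (a : A) (m : M) (r : A) (hr : r ∉ p.asIdeal) :
    a • frac m r hr = frac (a • m) r hr := LocalizedModule.smul'_mk _ _ _

theorem smul_cancel {p : PrimeSpectrum A} {s : A} (hs : s ∉ p.asIdeal) {a b : Loc A M p}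
    (h : s • a = s • b) : a = b := by
  have := IsLocalizedModule.smul_injective (LocalizedModule.mkLinearMap p.asIdeal.primeCompl M)
    (⟨s, hs⟩ : p.asIdeal.primeCompl)
  exact this h

theorem smul_frac_mul {p : PrimeSpectrum A} (m : M) (r s : A) (hr : r ∉ p.asIdeal) (h : s * r ∉ p.asIdeal) :
    s • frac m (s * r) h = frac m r hr := by
  rw [smul_frac, frac_smul_mul]

theorem lmap_lmap (φ : M →ₗ[A] N) (ψ : N →ₗ[A] P) {p : PrimeSpectrum A} (z : Loc A M p) :
    lmap ψ p (lmap φ p z) = lmap (ψ ∘ₗ φ) p z := by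
  obtain ⟨m, r, hr, rfl⟩ := exists_frac z
  rw [lmap_frac, lmap_frac, lmap_frac, LinearMap.comp_apply]

variable (A)

/-- Families of elements of the localizations which are locally fractions `m / r` on `D(r)`. -/
def secSubmodule (M : Type u) [AddCommGroup M] [Module A M] (V : Opens (PrimeSpectrum A)) :
    Submodule A (∀ y : V, Loc A M y.1) where
  carrier := {f | ∀ x : V, ∃ (r : A) (m : M), r ∉ x.1.asIdeal ∧
    ∀ (y : PrimeSpectrum A) (hr : r ∉ y.asIdeal), ∃ hy : y ∈ V, f ⟨y, hy⟩ = frac m r hr}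
  add_mem' {a b} ha hb x := by
    obtain ⟨r, m, hrx, hr⟩ := ha x
    obtain ⟨s, n, hsx, hs⟩ := hb x
    refine ⟨r * s, s • m + r • n, x.1.asIdeal.primeCompl.mul_mem hrx hsx, fun y hy => ?_⟩
    obtain ⟨hyV, ea⟩ := hr y fun h => hy (Ideal.mul_mem_right _ _ h)
    obtain ⟨_, eb⟩ := hs y fun h => hy (Ideal.mul_mem_left _ _ h)
    exact ⟨hyV, (congr($ea + $eb)).trans (LocalizedModule.mk_add_mk ..)⟩
  zero_mem' x := by
    obtain ⟨_, ⟨r, rfl⟩, hxr, hsub⟩ :=
      PrimeSpectrum.isTopologicalBasis_basic_opens.exists_subset_of_mem_open x.2 V.isOpen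
    exact ⟨r, 0, hxr, fun y hy => ⟨hsub hy, (LocalizedModule.zero_mk _).symm⟩⟩
  smul_mem' c {a} ha x := by
    obtain ⟨r, m, hrx, hr⟩ := ha x
    refine ⟨r, c • m, hrx, fun y hy => ?_⟩
    obtain ⟨hyV, ea⟩ := hr y hy
    exact ⟨hyV, (congr(c • $ea)).trans (smul_frac ..)⟩

/-- Sections of `M~` over `V`. -/
abbrev Sec (M : Type u) [AddCommGroup M] [Module A M] (V : Opens (PrimeSpectrum A)) : Type u :=
  ↥(secSubmodule A M V)

variable {A}
variable {V V' U : Opens (PrimeSpectrum A)}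

theorem Sec.ext' {s t : Sec A M V} (h : ∀ y, s.1 y = t.1 y) : s = t := Subtype.ext (funext h)

/-- Every section is, near each point, a fraction `m / r` on `D(r)`. -/
theorem exists_rep (s : Sec A M V) (x : V) :
    ∃ (r : A) (m : M), r ∉ x.1.asIdeal ∧
      ∀ (y : PrimeSpectrum A) (hr : r ∉ y.asIdeal), ∃ hy : y ∈ V, s.1 ⟨y, hy⟩ = frac m r hr :=
  s.2 x

/-- Constructor from local fractions. -/
def mkSec (f : ∀ y : V, Loc A M y.1)
    (hf : ∀ x : V, ∃ (r : A) (m : M), r ∉ x.1.asIdeal ∧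
      ∀ (y : V) (hr : r ∉ y.1.asIdeal), f y = frac m r hr) : Sec A M V :=
  ⟨f, fun x => by
    obtain ⟨r, m, hrx, h⟩ := hf x
    obtain ⟨_, ⟨s, rfl⟩, hxs, hsub⟩ :=
      PrimeSpectrum.isTopologicalBasis_basic_opens.exists_subset_of_mem_open x.2 V.isOpen
    refine ⟨s * r, s • m, x.1.asIdeal.primeCompl.mul_mem hxs hrx, fun y hy => ?_⟩
    have hyV : y ∈ V := hsub fun hm => hy (Ideal.mul_mem_right _ _ hm)
    have hyr : r ∉ y.asIdeal := fun hm => hy (Ideal.mul_mem_left _ _ hm)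
    exact ⟨hyV, (h ⟨y, hyV⟩ hyr).trans (frac_smul_mul m r s hyr hy).symm⟩⟩

@[simp] theorem mkSec_apply (f : ∀ y : V, Loc A M y.1) (hf) (y : V) : (mkSec f hf).1 y = f y := rfl

/-- The section `m / 1`. -/
def toSec (m : M) (V : Opens (PrimeSpectrum A)) : Sec A M V :=
  mkSec (fun y => frac m 1 y.1.isPrime.one_notMem) fun x =>
    ⟨1, m, x.1.isPrime.one_notMem, fun _ _ => rfl⟩

@[simp] theorem toSec_apply (m : M) (y : V) : (toSec m V).1 y = frac m 1 y.1.isPrime.one_notMem := rfl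

/-- Functoriality in the module. -/
def smap (φ : M →ₗ[A] N) (V : Opens (PrimeSpectrum A)) : Sec A M V →+ Sec A N V where
  toFun s := mkSec (fun y => lmap φ y.1 (s.1 y)) fun x => by
    obtain ⟨r, m, hrx, h⟩ := exists_rep s x
    refine ⟨r, φ m, hrx, fun y hr => ?_⟩
    obtain ⟨hy, he⟩ := h y.1 hr
    rw [← lmap_frac φ m r hr, ← he]
  map_zero' := Sec.ext' fun y => map_zero _
  map_add' s t := Sec.ext' fun y => map_add _ _ _

@[simp] theorem smap_apply (φ : M →ₗ[A] N) (s : Sec A M V) (y : V) :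
    (smap φ V s).1 y = lmap φ y.1 (s.1 y) := rfl

theorem smap_smap (φ : M →ₗ[A] N) (ψ : N →ₗ[A] P) (s : Sec A M V) :
    smap ψ V (smap φ V s) = smap (ψ ∘ₗ φ) V s := Sec.ext' fun _ => lmap_lmap _ _ _

theorem smap_smul (φ : M →ₗ[A] N) (a : A) (s : Sec A M V) : smap φ V (a • s) = a • smap φ V s :=
  Sec.ext' fun y => (lmap φ y.1).map_smul a (s.1 y)

theorem smap_zero_hom (s : Sec A M V) : smap (0 : M →ₗ[A] N) V s = 0 := Sec.ext' fun y => by
  obtain ⟨m, r, hr, he⟩ := exists_frac (s.1 y)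
  rw [smap_apply, he, lmap_frac, LinearMap.zero_apply]
  exact LocalizedModule.zero_mk _

/-- Restriction. -/
def sres (h : V' ≤ V) : Sec A M V →+ Sec A M V' where
  toFun s := mkSec (fun y => s.1 ⟨y.1, h y.2⟩) fun x => by
    obtain ⟨r, m, hrx, hr⟩ := exists_rep s ⟨x.1, h x.2⟩
    exact ⟨r, m, hrx, fun y hy => (hr y.1 hy).2⟩
  map_zero' := Sec.ext' fun _ => rfl
  map_add' _ _ := Sec.ext' fun _ => rfl

@[simp] theorem sres_apply (h : V' ≤ V) (s : Sec A M V) (y : V') :
    (sres h s).1 y = s.1 ⟨y.1, h y.2⟩ := rfl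

theorem sres_smul (h : V' ≤ V) (a : A) (s : Sec A M V) : sres h (a • s) = a • sres h s :=
  Sec.ext' fun _ => rfl

section HV

/-- Sections of the sheaf `M~` are families which are locally fractions. -/
def secEquiv (M : Type u) [AddCommGroup M] [Module A M] (V : Opens (PrimeSpectrum A)) :
    ((Coh.toAb (Formal2.tmod A M)).obj.obj (op V) : Type u) ≃+ Sec A M V where
  toFun s := ⟨fun y => s.1 y, fun x => by
    obtain ⟨W, hxW, i, m, r, hw⟩ := s.2 x
    obtain ⟨_, ⟨h, rfl⟩, hxh, hsub⟩ :=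
      PrimeSpectrum.isTopologicalBasis_basic_opens.exists_subset_of_mem_open hxW W.isOpen
    refine ⟨h * r, h • m, x.1.asIdeal.primeCompl.mul_mem hxh (hw ⟨x.1, hxW⟩).1, fun y hy => ?_⟩
    have hyh : h ∉ y.asIdeal := fun hm => hy (Ideal.mul_mem_right _ _ hm)
    obtain ⟨hr', he⟩ := hw ⟨y, hsub hyh⟩
    exact ⟨i.le (hsub hyh), he.trans (frac_smul_mul m r h hr' hy).symm⟩⟩
  invFun s := ⟨fun y => s.1 y, fun x => by
    obtain ⟨r, m, hrx, hr⟩ := exists_rep s x
    exact ⟨PrimeSpectrum.basicOpen r, hrx, homOfLE fun y hy => (hr y hy).1, m, r,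
      fun y => ⟨y.2, (hr y.1 y.2).2⟩⟩⟩
  left_inv _ := rfl
  right_inv _ := rfl
  map_add' _ _ := rfl

/-- Degree zero cohomology is the module of sections. -/
def e0 (M : Type u) [AddCommGroup M] [Module A M] (V : Opens (PrimeSpectrum A)) :
    Formal2.HV A M 0 V ≃+ Sec A M V :=
  AddEquiv.trans (TopCoh49.E₀ (Coh.toAb (Formal2.tmod A M)) V)
    (secEquiv M V)

theorem e0_map (φ : M →ₗ[A] N) (x : Formal2.HV A M 0 V) :
    e0 N V (Formal2.HVmap A φ 0 V x) = smap φ V (e0 M V x) := by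
  refine Sec.ext' fun y => ?_
  have h := TopCoh49.E₀_emap ((SheafOfModules.toSheaf _).map (Formal2.tmodMap A φ)) V x
  rw [← TopCoh49.HUmap_eq_emap] at h
  exact congrArg (fun s => s.1 y) h

theorem e0_res (h : V' ≤ V) (x : Formal2.HV A M 0 V) :
    e0 M V' (Formal2.HVres A M 0 h x) = sres h (e0 M V x) := by
  refine Sec.ext' fun y => ?_
  have h' := TopCoh49.E₀_eres (Coh.toAb (Formal2.tmod A M)) h x
  rw [← TopCoh49.res_eq_eres] at h'
  exact congrArg (fun s => s.1 y) h'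

end HV

/-- A section killed away from `V(t)` is killed by a power of `t`. -/
theorem exists_pow_smul_eq_zero [IsNoetherianRing A] (t : A) (s : Sec A M V)
    (h : ∀ y : V, t ∉ y.1.asIdeal → s.1 y = 0) : ∃ K : ℕ, ∀ y : V, t ^ K • s.1 y = 0 := by
  classical
  have hloc : ∀ x : V, ∃ (r : A) (K : ℕ), r ∉ x.1.asIdeal ∧
      ∀ y : V, r ∉ y.1.asIdeal → ∀ k, K ≤ k → t ^ k • s.1 y = 0 := by
    intro x
    obtain ⟨r, m, hrx, hr⟩ := exists_rep s x
    obtain ⟨K, hK⟩ : r * t ∈ Ideal.radical (LinearMap.ker (LinearMap.toSpanSingleton A M m) : Ideal A) := by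
      rw [Ideal.radical_eq_sInf, Submodule.mem_sInf]
      rintro J ⟨hJ, hJp⟩
      by_contra hn
      obtain ⟨hy, he⟩ := hr ⟨J, hJp⟩ fun h1 => hn (Ideal.mul_mem_right _ J h1)
      obtain ⟨c, hc, hcm⟩ := (frac_eq_zero_iff _ _ _).mp
        (he.symm.trans (h ⟨⟨J, hJp⟩, hy⟩ fun h1 => hn (Ideal.mul_mem_left J _ h1)))
      exact hc (hJ (by simpa using hcm))
    refine ⟨r, K, hrx, fun y hy k hk => ?_⟩
    have hK' : (r * t) ^ K • m = 0 := by simpa using hK
    obtain ⟨_, he⟩ := hr y.1 hy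
    rw [show s.1 y = frac m r hy from he, smul_frac, frac_eq_zero_iff]
    refine ⟨r ^ K, y.1.asIdeal.primeCompl.pow_mem hy K, ?_⟩
    rw [← Nat.sub_add_cancel hk, pow_add, ← mul_smul, mul_left_comm, ← mul_pow, mul_smul, hK', smul_zero]
  choose r K hr hK using hloc
  obtain ⟨S, hS⟩ := (NoetherianSpace.isCompact (α := PrimeSpectrum A) (SetLike.coe V)).elim_finite_subcover
    (fun x : V => (PrimeSpectrum.basicOpen (r x) : Set (PrimeSpectrum A)))
    (fun x => (PrimeSpectrum.basicOpen (r x)).isOpen)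
    (fun y hy => Set.mem_iUnion.mpr ⟨⟨y, hy⟩, hr ⟨y, hy⟩⟩)
  refine ⟨S.sup K, fun y => ?_⟩
  obtain ⟨x, hxS, hxy⟩ := Set.mem_iUnion₂.mp (hS y.2)
  exact hK x y hxy _ (Finset.le_sup hxS)

end Groth.Agent.Frac27
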